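import Groth.Prelude.Def_LinTop
import Groth.Prelude.Def_W4stk3formalspacesTaut
import Mathlib.RingTheory.AdicCompletion.Basic
import Mathlib.Topology.Algebra.Ring.Ideal
import Mathlib.Topology.Algebra.Nonarchimedean.Basic
import Mathlib.RingTheory.Henselian
import Mathlib.Topology.Algebra.InfiniteSum.Nonarchimedean
import Mathlib.Topology.Algebra.InfiniteSum.NatInt
import Mathlib.Topology.Algebra.InfiniteSum.Ring

/-!
Basic facts about ideals of definition, topologically nilpotent elements, and adic completeness of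
complete separated linearly topologized rings along finitely generated ideals of topologically
nilpotent elements.
-/

set_option autoImplicit false
set_option linter.unusedSectionVars false
set_option linter.style.haveILetI false

namespace Groth.Agent.LinTop27

universe u

open Filter Topology

section

variable {A : Type u} [CommRing A] [TopologicalSpace A]

theorem isTopologicallyNilpotent_of_mem {I : Ideal A} (hI : LinTop.IsIdealOfDefinition A I) {x : A}
    {k : ℕ} (hx : x ^ k ∈ I) : IsTopologicallyNilpotent x := by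
  intro U hU
  obtain ⟨n, -, hn⟩ := hI.2 U hU
  refine mem_atTop_sets.mpr ⟨k * n, fun m hm => hn ?_⟩
  exact (I ^ n).pow_mem_of_pow_mem (pow_mul x k n ▸ Ideal.pow_mem_pow hx n) hm

theorem mem_nhds_zero {I : Ideal A} (hI : IsOpen (I : Set A)) : (I : Set A) ∈ 𝓝 (0 : A) :=
  hI.mem_nhds I.zero_mem

theorem IsIdealOfDefinition.weak {I : Ideal A} (hI : LinTop.IsIdealOfDefinition A I) :
    LinTop.IsWeakIdealOfDefinition A I :=
  ⟨hI.1, fun x hx => isTopologicallyNilpotent_of_mem (k := 1) hI (by simpa using hx)⟩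

theorem exists_pow_mem_of_isOpen {I : Ideal A} (hI : IsOpen (I : Set A)) {x : A}
    (hx : IsTopologicallyNilpotent x) : ∃ n, x ^ n ∈ I :=
  hx.exists_pow_mem_of_mem_nhds (mem_nhds_zero hI)

theorem le_radical {I J : Ideal A} (hI : LinTop.IsIdealOfDefinition A I) (hJ : IsOpen (J : Set A)) :
    I ≤ J.radical := fun _ hx =>
  exists_pow_mem_of_isOpen hJ ((IsIdealOfDefinition.weak hI).2 _ hx)

theorem isIdealOfDefinition_of_ge [IsTopologicalRing A] {I J : Ideal A}
    (hI : LinTop.IsIdealOfDefinition A I) (hIJ : I ≤ J) {n : ℕ} (hn : 0 < n) (hJ : J ^ n ≤ I) :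
    LinTop.IsIdealOfDefinition A J := by
  refine ⟨Submodule.isOpen_mono hIJ hI.1, fun U hU => ?_⟩
  obtain ⟨k, hk, hkU⟩ := hI.2 U hU
  exact ⟨n * k, Nat.mul_pos hn hk, Set.Subset.trans
    (SetLike.coe_subset_coe.mpr (pow_mul J n k ▸ Ideal.pow_right_mono hJ k)) hkU⟩

theorem sup_pow_le (I J : Ideal A) {n : ℕ} (hn : J ^ n ≤ I) : (I ⊔ J) ^ n ≤ I := by
  have h : Ideal.map (Ideal.Quotient.mk I) ((I ⊔ J) ^ n) ≤ ⊥ := by
    rw [Ideal.map_pow, Ideal.map_sup, Ideal.map_quotient_self, bot_sup_eq, ← Ideal.map_pow]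
    exact (Ideal.map_mono hn).trans (Ideal.map_quotient_self I).le
  intro x hx
  exact Ideal.Quotient.eq_zero_iff_mem.mp (h (Ideal.mem_map_of_mem _ hx))

end

section Complete

variable {A : Type u} [CommRing A] [UniformSpace A] [IsUniformAddGroup A] [IsTopologicalRing A]

theorem nonarchimedeanAddGroup [IsLinearTopology A A] : NonarchimedeanAddGroup A where
  is_nonarchimedean U hU := by
    obtain ⟨J, hJ, hJU⟩ := (IsLinearTopology.hasBasis_open_ideal.mem_iff).mp hU
    exact ⟨⟨J.toAddSubgroup, hJ⟩, hJU⟩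

theorem exists_isOpen_ideal_subset [IsLinearTopology A A] {U : Set A} (hU : U ∈ 𝓝 (0 : A)) :
    ∃ J : Ideal A, IsOpen (J : Set A) ∧ (J : Set A) ⊆ U :=
  (IsLinearTopology.hasBasis_open_ideal.mem_iff).mp hU

/-- A finitely generated ideal of topologically nilpotent elements has powers tending to zero. -/
theorem exists_pow_le_of_fg [IsLinearTopology A A] {I J : Ideal A} (hI : I.FG)
    (hnil : ∀ x ∈ I, IsTopologicallyNilpotent x) (hJ : IsOpen (J : Set A)) : ∃ n, I ^ n ≤ J :=
  Ideal.exists_pow_le_of_le_radical_of_fg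
    (fun x hx => exists_pow_mem_of_isOpen hJ (hnil x hx)) hI

theorem summable_of_mem_pow [IsLinearTopology A A] [CompleteSpace A] {I : Ideal A} (hI : I.FG)
    (hnil : ∀ x ∈ I, IsTopologicallyNilpotent x) (d : ℕ → A) (c : ℕ)
    (hd : ∀ k, d k ∈ I ^ (k - c)) : Summable d := by
  haveI := nonarchimedeanAddGroup (A := A)
  refine NonarchimedeanAddGroup.summable_of_tendsto_cofinite_zero ?_
  rw [Nat.cofinite_eq_atTop]
  intro U hU
  obtain ⟨J, hJ, hJU⟩ := exists_isOpen_ideal_subset hU
  obtain ⟨n, hn⟩ := exists_pow_le_of_fg hI hnil hJ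
  refine mem_atTop_sets.mpr ⟨n + c, fun k hk => hJU (hn ?_)⟩
  exact Ideal.pow_le_pow_right (by omega) (hd k)

/-- A complete separated linearly topologized ring is complete along any finitely generated ideal of
topologically nilpotent elements. -/
theorem isAdicComplete_of_fg [IsLinearTopology A A] [T2Space A] [CompleteSpace A] {I : Ideal A}
    (hI : I.FG) (hnil : ∀ x ∈ I, IsTopologicallyNilpotent x) : IsAdicComplete I A := by
  have hH : IsHausdorff I A := by
    refine ⟨fun x hx => ?_⟩
    by_contra h0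
    obtain ⟨J, hJ, hJU⟩ := exists_isOpen_ideal_subset
      (isOpen_compl_singleton.mem_nhds (x := (0 : A)) (Ne.symm h0))
    obtain ⟨n, hn⟩ := exists_pow_le_of_fg hI hnil hJ
    have hxn := hx n
    rw [SModEq.zero, smul_eq_mul, Ideal.mul_top] at hxn
    exact hJU (hn hxn) rfl
  refine { haus' := hH.haus', prec' := fun f hf => ?_ }
  simp only [smul_eq_mul, Ideal.mul_top, SModEq.sub_mem] at hf ⊢
  set d : ℕ → A := fun k => f (k + 1) - f k with hd_def
  have hd : ∀ k, d k ∈ I ^ k := fun k => by
    have := hf (Nat.le_succ k)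
    rw [hd_def]
    simpa using (I ^ k).neg_mem this
  have hsum : Summable d := summable_of_mem_pow hI hnil d 0 (by simpa using hd)
  refine ⟨f 0 + ∑' k, d k, fun n => ?_⟩
  have htail : (∑' k, d (k + n)) ∈ I ^ n := by
    obtain ⟨s, hs⟩ := (Submodule.FG.pow hI n : (I ^ n).FG)
    have hrep : ∀ k, ∃ y : {g // g ∈ s} → A, (∀ g, y g ∈ I ^ k) ∧
        d (k + n) = ∑ g : {g // g ∈ s}, y g * (g : A) := by
      intro k
      have h1 : d (k + n) ∈ I ^ k • Submodule.span A (Set.range (Subtype.val : {g // g ∈ s} → A)) := by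
        rw [Subtype.range_coe_subtype]
        change d (k + n) ∈ I ^ k • Submodule.span A (↑s : Set A)
        rw [hs, smul_eq_mul, ← pow_add]
        exact hd _
      obtain ⟨y, hy, hy'⟩ := (Submodule.mem_ideal_smul_span_iff_exists_sum _ _ _).mp h1
      refine ⟨fun g => y g, hy, ?_⟩
      rw [← hy', Finsupp.sum_fintype]
      · rfl
      · intro g
        exact zero_smul _ _
    choose y hy hy' using hrep
    have hsy : ∀ g, Summable fun k => y k g := fun g =>
      summable_of_mem_pow hI hnil _ 0 (by simpa using fun k => hy k g)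
    have : HasSum (fun k => d (k + n)) (∑ g : {g // g ∈ s}, (∑' k, y k g) * (g : A)) := by
      simp only [hy']
      exact hasSum_sum fun g _ => (hsy g).hasSum.mul_right _
    rw [this.tsum_eq]
    refine (I ^ n).sum_mem fun g _ => Ideal.mul_mem_left _ _ ?_
    rw [← hs]
    exact Submodule.subset_span g.2
  have hpart : ∀ m, f 0 + ∑ k ∈ Finset.range m, d k = f m := fun m => by
    simp only [hd_def]
    rw [Finset.sum_range_sub f]; ring
  rw [← hsum.sum_add_tsum_nat_add n, ← add_assoc, hpart]
  simpa using htail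

/-- A complete separated linearly topologized ring is complete along any principal ideal generated by
a topologically nilpotent element. -/
theorem isAdicComplete_span_singleton [IsLinearTopology A A] [T2Space A] [CompleteSpace A] {c : A}
    (hc : IsTopologicallyNilpotent c) : IsAdicComplete (Ideal.span {c}) A := by
  refine isAdicComplete_of_fg (Submodule.fg_span_singleton c) fun x hx => ?_
  obtain ⟨a, rfl⟩ := Ideal.mem_span_singleton'.mp hx
  exact hc.mul_left a

theorem le_jacobson_bot [IsLinearTopology A A] [T2Space A] [CompleteSpace A] {I : Ideal A}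
    (hnil : ∀ x ∈ I, IsTopologicallyNilpotent x) : I ≤ (⊥ : Ideal A).jacobson := fun x hx => by
  haveI := isAdicComplete_span_singleton (hnil x hx)
  exact IsAdicComplete.le_jacobson_bot (Ideal.span {x}) (Ideal.mem_span_singleton_self x)

theorem isUnit_one_add [IsLinearTopology A A] [T2Space A] [CompleteSpace A] {I : Ideal A}
    (hnil : ∀ x ∈ I, IsTopologicallyNilpotent x) {x : A} (hx : x ∈ I) : IsUnit (1 + x) := by
  have := Ideal.mem_jacobson_bot.mp (le_jacobson_bot hnil hx) 1
  rwa [mul_one, add_comm] at this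

theorem isUnit_of_isUnit_mk [IsLinearTopology A A] [T2Space A] [CompleteSpace A] {I : Ideal A}
    (hnil : ∀ x ∈ I, IsTopologicallyNilpotent x) {f : A} (hf : IsUnit (Ideal.Quotient.mk I f)) :
    IsUnit f :=
  haveI := isLocalHom_of_le_jacobson_bot I (le_jacobson_bot hnil)
  isUnit_of_map_unit (Ideal.Quotient.mk I) f hf

theorem henselianRing [IsLinearTopology A A] [T2Space A] [CompleteSpace A] {I : Ideal A}
    (hnil : ∀ x ∈ I, IsTopologicallyNilpotent x) : HenselianRing A I where
  jac := le_jacobson_bot hnil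
  is_henselian f hf a₀ ha₀ hu := by
    haveI := isAdicComplete_span_singleton (hnil _ ha₀)
    haveI : HenselianRing A (Ideal.span {f.eval a₀}) := inferInstance
    obtain ⟨a, ha, ha'⟩ := HenselianRing.is_henselian (I := Ideal.span {f.eval a₀}) f hf a₀
      (Ideal.mem_span_singleton_self _) ((isUnit_of_isUnit_mk hnil hu).map _)
    exact ⟨a, ha, (Ideal.span_singleton_le_iff_mem I).mpr ha₀ ha'⟩

end Complete

end Groth.Agent.LinTop27
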